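import Cfsg.Agent.Lib.GL.SympOrders
import Cfsg.Agent.Lib.GLHomocyclic.Basic
import Cfsg.Agent.Lib.Forms.Symp

/-!
Sylow `r`-subgroups of `Sp_{2n}(q)` for odd `r > n`, `r ∤ q`, are homocyclic.
-/

set_option autoImplicit false

open Matrix

namespace Cfsg.Agent.GLHomocyclic

section NT

variable {q r : ℕ} (hq : 2 ≤ q) (hr : r.Prime) (hrq : ¬ r ∣ q)

include hq hr hrq in
/-- The `r`-part of `q ^ (d * k) - 1` when `r ∤ k`. -/
theorem factorization_pow_mul_sub_one {k : ℕ} (hk : ¬ r ∣ k) :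
    (q ^ (dd q r * k) - 1).factorization r = vv q r := by
  have hgeom : q ^ (dd q r * k) - 1 = (q ^ dd q r - 1) * ∑ j ∈ Finset.range k, (q ^ dd q r) ^ j := by
    have hz : ((q : ℤ) ^ dd q r - 1) * ∑ j ∈ Finset.range k, ((q : ℤ) ^ dd q r) ^ j = (q : ℤ) ^ (dd q r * k) - 1 := by
      rw [mul_geom_sum, ← pow_mul]
    have h1 : 1 ≤ q ^ dd q r := Nat.one_le_pow _ _ (by omega)
    have h2 : 1 ≤ q ^ (dd q r * k) := Nat.one_le_pow _ _ (by omega)
    zify [h1, h2]
    exact hz.symm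
  have hd := dd_pos (q := q) hr hrq
  have hnd : ¬ r ∣ ∑ j ∈ Finset.range k, (q ^ dd q r) ^ j := by
    rw [← ZMod.natCast_eq_zero_iff]
    push_cast
    rw [show (q : ZMod r) ^ dd q r = 1 from pow_orderOf_eq_one _]
    simp only [one_pow, Finset.sum_const, Finset.card_range, nsmul_one]
    rwa [ZMod.natCast_eq_zero_iff]
  have hA : q ^ dd q r - 1 ≠ 0 := by
    have : q ^ 1 ≤ q ^ dd q r := Nat.pow_le_pow_right (by omega) hd
    rw [pow_one] at this; omega
  have hB : ∑ j ∈ Finset.range k, (q ^ dd q r) ^ j ≠ 0 := fun h0 => hnd (by rw [h0]; exact dvd_zero r)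
  rw [hgeom, Nat.factorization_mul hA hB, Finsupp.add_apply, Nat.factorization_eq_zero_of_not_dvd hnd, add_zero, vv]

include hq hr hrq in
/-- The `r`-part of the order of `Sp_{2n}(q)`. -/
theorem factorization_symp {n : ℕ} (hr2 : r ≠ 2) (hn : n < r) :
    (q ^ n ^ 2 * ∏ i ∈ Finset.range n, (q ^ (2 * (i + 1)) - 1)).factorization r =
      vv q r * ((Finset.Icc 1 n).filter (fun i => dd q r ∣ 2 * i)).card := by
  have hprod : ∏ i ∈ Finset.range n, (q ^ (2 * (i + 1)) - 1) = ∏ i ∈ Finset.Icc 1 n, (q ^ (2 * i) - 1) := by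
    rw [Finset.range_eq_Ico]
    refine Finset.prod_nbij' (fun i => i + 1) (fun i => i - 1) ?_ ?_ ?_ ?_ ?_ <;> intro a ha <;>
      simp only [Finset.coe_Ico, Finset.coe_Icc, Set.mem_Ico, Set.mem_Icc, Finset.mem_Ico, Finset.mem_Icc] at ha ⊢ <;> omega
  have hne : ∀ i ∈ Finset.Icc 1 n, q ^ (2 * i) - 1 ≠ 0 := fun i hi => by
    rw [Finset.mem_Icc] at hi
    have : q ^ 1 ≤ q ^ (2 * i) := Nat.pow_le_pow_right (by omega) (by omega)
    rw [pow_one] at this; omega
  have key : ∀ i ∈ Finset.Icc 1 n, (q ^ (2 * i) - 1).factorization r = if dd q r ∣ 2 * i then vv q r else 0 := by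
    intro i hi
    rw [Finset.mem_Icc] at hi
    split_ifs with h
    · obtain ⟨k, hk⟩ := h
      rw [hk]
      refine factorization_pow_mul_sub_one hq hr hrq fun hrk => ?_
      obtain ⟨t, rfl⟩ := hrk
      have hd := dd_pos (q := q) hr hrq
      have hodd := hr.odd_of_ne_two hr2
      have hlt : dd q r * t < 2 := by
        by_contra hge
        have := Nat.mul_le_mul_left r (not_lt.1 hge)
        nlinarith
      have hpos : 0 < dd q r * t := by
        rcases Nat.eq_zero_or_pos t with rfl | ht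
        · simp at hk; omega
        · positivity
      have h2i : 2 * i = r := by
        calc 2 * i = dd q r * (r * t) := hk
          _ = r * (dd q r * t) := by ring
          _ = r := by rw [show dd q r * t = 1 by omega, mul_one]
      obtain ⟨s, hs⟩ := hodd
      omega
    · exact Nat.factorization_eq_zero_of_not_dvd fun hdvd => h ((dvd_pow_sub_one_iff hq _).1 hdvd)
  rw [hprod, Nat.factorization_mul (by positivity) (Finset.prod_ne_zero_iff.2 hne), Finsupp.add_apply,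
    Nat.factorization_pow, Finsupp.smul_apply, Nat.factorization_eq_zero_of_not_dvd hrq, smul_zero, zero_add,
    Nat.factorization_prod hne, Finsupp.finsetSum_apply, Finset.sum_congr rfl key,
    Finset.sum_ite, Finset.sum_const, Finset.sum_const_zero, add_zero, smul_eq_mul, mul_comm]

include hq hr hrq in
/-- A block of size `e` carries a torus with full `r`-part. -/
theorem exists_block_size (hr2 : r ≠ 2) :
    ∃ e, 0 < e ∧ (∀ i, dd q r ∣ 2 * i ↔ e ∣ i) ∧ (r ^ vv q r ∣ q ^ e - 1 ∧ e = dd q r ∨ r ^ vv q r ∣ q ^ e + 1 ∧ 2 * e = dd q r) := by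
  have hd := dd_pos (q := q) hr hrq
  rcases Nat.even_or_odd (dd q r) with ⟨e, he⟩ | hodd
  · have he2 : 2 * e = dd q r := by omega
    refine ⟨e, by omega, fun i => ?_, Or.inr ⟨?_, he2⟩⟩
    · rw [← he2, Nat.mul_dvd_mul_iff_left (by norm_num : 0 < 2)]
    have h1 : 1 ≤ q ^ e := Nat.one_le_pow _ _ (by omega)
    have hsplit : q ^ dd q r - 1 = (q ^ e - 1) * (q ^ e + 1) := by
      rw [show q ^ dd q r = (q ^ e) ^ 2 by rw [← pow_mul, ← he2, mul_comm], mul_comm, ← Nat.sq_sub_sq, one_pow]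
    have hcop : Nat.Coprime (r ^ vv q r) (q ^ e - 1) :=
      Nat.Coprime.pow_left _ (hr.coprime_iff_not_dvd.2 fun h => by
        have := Nat.le_of_dvd (by omega) ((dvd_pow_sub_one_iff hq e).1 h)
        omega)
    refine hcop.dvd_of_dvd_mul_left ?_
    rw [← hsplit]
    exact Nat.ordProj_dvd _ r
  · refine ⟨dd q r, hd, fun i => ?_, Or.inl ⟨Nat.ordProj_dvd _ r, rfl⟩⟩
    exact (Nat.coprime_two_right.2 hodd).dvd_mul_left

end NT

variable {F : Type*} [Field F] [Fintype F]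

theorem exists_symp_torus {r : ℕ} [hr : Fact r.Prime] (hr2 : r ≠ 2) (hrq : ¬ r ∣ Fintype.card F) :
    ∃ e, 0 < e ∧ (∀ i, dd (Fintype.card F) r ∣ 2 * i ↔ e ∣ i) ∧
      ∃ c : Multiplicative (ZMod (r ^ vv (Fintype.card F) r)) →* Matrix (Fin e ⊕ Fin e) (Fin e ⊕ Fin e) F,
        Function.Injective c ∧ ∀ x, GL.Preserves (sympForm e F) (c x) := by
  obtain ⟨e, he, hiff, hcase⟩ := exists_block_size (q := Fintype.card F) Fintype.one_lt_card hr.out hrq hr2
  refine ⟨e, he, hiff, ?_⟩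
  set m := r ^ vv (Fintype.card F) r
  obtain ⟨Z, N, hZ, hN, hmN⟩ : ∃ (Z : Matrix (Fin e ⊕ Fin e) (Fin e ⊕ Fin e) F) (N : ℕ),
      GL.Preserves (sympForm e F) Z ∧ (∀ k, Z ^ k = 1 ↔ N ∣ k) ∧ m ∣ N := by
    rcases hcase with ⟨h, -⟩ | ⟨h, -⟩
    · obtain ⟨Z, h1, h2, -⟩ := GL.exists_split_torus_symp (F := F) he
      exact ⟨Z, _, h1, h2, h⟩
    · obtain ⟨Z, h1, h2, -⟩ := GL.exists_nonsplit_torus_symp_any (F := F) he
      exact ⟨Z, _, h1, h2, h⟩
  let A : Matrix.symplecticGroup (Fin e) F := ⟨Z, GL.mem_symplectic_iff_preserves.2 hZ⟩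
  have hpow : ∀ k, A ^ k = 1 ↔ N ∣ k := fun k => by
    rw [← hN, ← Subtype.coe_inj, SubmonoidClass.coe_pow]
    rfl
  have hord : orderOf A = N :=
    Nat.dvd_antisymm (orderOf_dvd_of_pow_eq_one ((hpow N).2 dvd_rfl)) ((hpow _).1 (pow_orderOf_eq_one A))
  haveI : Finite (Matrix (Fin e ⊕ Fin e) (Fin e ⊕ Fin e) F) := inferInstance
  obtain ⟨c, hc⟩ := exists_cyclic_hom (A ^ (orderOf A / m)) m
    (orderOf_pow_orderOf_div (orderOf_pos A).ne' (hord ▸ hmN))
  refine ⟨(Matrix.symplecticGroup (Fin e) F).subtype.comp c, Subtype.val_injective.comp hc, fun x => ?_⟩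
  exact GL.mem_symplectic_iff_preserves.1 (c x).2

theorem exists_symp_blocks {C : Type*} [Group C] {e : ℕ} (c : C →* Matrix (Fin e ⊕ Fin e) (Fin e ⊕ Fin e) F)
    (hc : Function.Injective c) (hp : ∀ x, GL.Preserves (sympForm e F) (c x)) :
    ∀ a n, e * a ≤ n → ∃ φ : (Fin a → C) →* Matrix (Fin n ⊕ Fin n) (Fin n ⊕ Fin n) F,
      Function.Injective φ ∧ ∀ x, GL.Preserves (sympForm n F) (φ x) := by
  intro a
  induction a with
  | zero =>
    intro n _
    exact ⟨1, Function.injective_of_subsingleton _, fun x u v => by simp⟩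
  | succ a ih =>
    intro n hn
    rw [Nat.mul_succ] at hn
    obtain ⟨φ, hφ, hφp⟩ := ih (n - e) (by omega)
    have h : e + (n - e) = n := by omega
    let tl : (Fin (a + 1) → C) →* (Fin a → C) :=
      { toFun := fun x => Fin.tail x, map_one' := rfl, map_mul' := fun _ _ => rfl }
    refine ⟨(GL.sympBlock h).comp ((c.comp (Pi.evalMonoidHom _ 0)).prod (φ.comp tl)), fun x y hxy => ?_,
      fun x => GL.preserves_sympBlock h (hp _) (hφp _)⟩
    have h2 : (c (x 0), φ (Fin.tail x)) = (c (y 0), φ (Fin.tail y)) := by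
      have := (Matrix.reindexAlgEquiv F F (GL.sympBlockEquiv h)).injective hxy
      obtain ⟨h11, -, -, h22⟩ := Matrix.fromBlocks_inj.1 this
      exact Prod.ext h11 h22
    rw [← Fin.cons_self_tail x, ← Fin.cons_self_tail y, hc (Prod.ext_iff.1 h2).1, hφ (Prod.ext_iff.1 h2).2]

theorem sylow_Sp (n r : ℕ) [hr : Fact r.Prime] (hr2 : r ≠ 2) (hrn : n < r) (hrq : ¬ r ∣ Fintype.card F)
    (P : Sylow r ↥(Matrix.symplecticGroup (Fin n) F)) :
    Nonempty (↥(P : Subgroup ↥(Matrix.symplecticGroup (Fin n) F)) ≃*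
      (Fin ((Finset.Icc 1 n).filter (fun i => dd (Fintype.card F) r ∣ 2 * i)).card →
        Multiplicative (ZMod (r ^ vv (Fintype.card F) r)))) := by
  haveI : NeZero (r ^ vv (Fintype.card F) r) := ⟨pow_ne_zero _ hr.out.ne_zero⟩
  obtain ⟨e, he, hiff, c, hc, hcp⟩ := exists_symp_torus (F := F) hr2 hrq
  have ha : ((Finset.Icc 1 n).filter (fun i => dd (Fintype.card F) r ∣ 2 * i)).card = n / e := by
    rw [← card_filter_Icc_one e n]
    exact congrArg _ (Finset.filter_congr fun i _ => hiff i)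
  obtain ⟨φ, hφ, hφp⟩ := exists_symp_blocks c hc hcp
    ((Finset.Icc 1 n).filter (fun i => dd (Fintype.card F) r ∣ 2 * i)).card n (by rw [ha]; exact Nat.mul_div_le n e)
  refine nonempty_equiv_of_injective
    (φ.codRestrict (Matrix.symplecticGroup (Fin n) F) fun x => GL.mem_symplectic_iff_preserves.2 (hφp x))
    (fun x y h => hφ (congrArg Subtype.val h)) ?_ P
  rw [card_pi_zmod, ← pow_mul, Forms.card_symplecticGroup,
    factorization_symp Fintype.one_lt_card hr.out hrq hr2 hrn]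

end Cfsg.Agent.GLHomocyclic
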